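import Groth.Prelude.Def_LefPen
import Mathlib.RingTheory.MvPolynomial.EulerIdentity
import Mathlib.LinearAlgebra.Dual.Lemmas
import Mathlib.RingTheory.Derivation.Lie

/-! Values and differentials of forms at two points, packed as functionals on linear subspaces. -/

universe u

namespace Groth.Agent.TangForm19

open MvPolynomial LefPen

variable {k : Type u} [Field k] {r : ℕ}

/-- The linear form attached to a functional. -/
noncomputable def lin (f : (Fin (r + 1) → k) →ₗ[k] k) : MvPolynomial (Fin (r + 1)) k :=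
  ∑ i, MvPolynomial.C (f (Pi.single i 1)) * MvPolynomial.X i

lemma lin_hom (f : (Fin (r + 1) → k) →ₗ[k] k) : (lin f).IsHomogeneous 1 :=
  IsHomogeneous.sum _ _ _ fun i _ => by
    simpa using (isHomogeneous_C _ (f (Pi.single i 1))).mul (isHomogeneous_X k i)

lemma aeval_lin (f : (Fin (r + 1) → k) →ₗ[k] k) (v : Fin (r + 1) → k) : aeval v (lin f) = f v := by
  conv_rhs => rw [pi_eq_sum_univ' v]
  simp only [lin, map_sum, map_mul, aeval_C, aeval_X, map_smul, smul_eq_mul, Algebra.algebraMap_self,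
    RingHom.id_apply]
  exact Finset.sum_congr rfl fun i _ => mul_comm _ _

lemma eval_lin (f : (Fin (r + 1) → k) →ₗ[k] k) (v : Fin (r + 1) → k) : eval v (lin f) = f v := by
  simpa using aeval_lin f v

/-- Differential at `v`. -/
noncomputable def D (v : Fin (r + 1) → k) :
    MvPolynomial (Fin (r + 1)) k →ₗ[k] (Fin (r + 1) → k) →ₗ[k] k where
  toFun P := ∑ i, aeval v (pderiv i P) • LinearMap.proj i
  map_add' P Q := by simp [add_smul, Finset.sum_add_distrib]
  map_smul' c P := by simp [Finset.smul_sum, smul_smul]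

lemma D_apply (v w : Fin (r + 1) → k) (P : MvPolynomial (Fin (r + 1)) k) :
    D v P w = ∑ i, w i * aeval v (pderiv i P) := by
  simp [D, mul_comm]

lemma D_C (v w : Fin (r + 1) → k) (a : k) : D v (C a) w = 0 := by simp [D_apply]

lemma D_lin (f : (Fin (r + 1) → k) →ₗ[k] k) (v w : Fin (r + 1) → k) : D v (lin f) w = f w := by
  rw [D_apply, ← aeval_lin f w]
  simp only [lin, map_sum, map_mul, aeval_C, aeval_X]
  refine Finset.sum_congr rfl fun i _ => ?_
  rw [Finset.sum_eq_single i]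
  · simp [mul_comm]
  · intro j _ hj
    simp [Ne.symm hj, hj]
  · simp

lemma D_mul (v w : Fin (r + 1) → k) (P Q : MvPolynomial (Fin (r + 1)) k) :
    D v (P * Q) w = D v P w * aeval v Q + aeval v P * D v Q w := by
  simp only [D_apply, pderiv_mul, map_add, map_mul, Finset.mul_sum, Finset.sum_mul,
    ← Finset.sum_add_distrib]
  exact Finset.sum_congr rfl fun i _ => by ring

lemma D_pow (v w : Fin (r + 1) → k) (P : MvPolynomial (Fin (r + 1)) k) (n : ℕ) :
    D v (P ^ n) w = n * aeval v P ^ (n - 1) * D v P w := by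
  induction n with
  | zero => simp [D_apply]
  | succ n ih =>
    rw [pow_succ, D_mul, ih, map_pow]
    rcases n with _ | n
    · simp
    · simp only [Nat.add_sub_cancel, Nat.cast_add, Nat.cast_one]
      ring

lemma D_self {d : ℕ} {G : MvPolynomial (Fin (r + 1)) k} (hG : G.IsHomogeneous d) (v : Fin (r + 1) → k) :
    D v G v = (d : k) * aeval v G := by
  have h := congrArg (aeval v) hG.sum_X_mul_pderiv
  rw [D_apply]
  simpa [map_sum, nsmul_eq_mul] using h

lemma pderiv_comm (i j : Fin (r + 1)) (P : MvPolynomial (Fin (r + 1)) k) :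
    pderiv i (pderiv j P) = pderiv j (pderiv i P) := by
  have h : ⁅(pderiv i : Derivation k (MvPolynomial (Fin (r + 1)) k) (MvPolynomial (Fin (r + 1)) k)),
      pderiv j⁆ = 0 := derivation_ext fun l => by
    rw [Derivation.commutator_apply]
    simp [pderiv_X, Pi.single_apply, apply_ite]
  have := congrArg (fun e : Derivation k (MvPolynomial (Fin (r + 1)) k) _ => e P) h
  rw [Derivation.commutator_apply] at this
  exact sub_eq_zero.mp (by simpa using this)

lemma D_symm {G : MvPolynomial (Fin (r + 1)) k} (hG : G.IsHomogeneous 2) (v w : Fin (r + 1) → k) :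
    D v G w = D w G v := by
  have key : ∀ (i : Fin (r + 1)) (u : Fin (r + 1) → k),
      aeval u (pderiv i G) = ∑ j, u j * coeff 0 (pderiv j (pderiv i G)) := by
    intro i u
    have h1 : (pderiv i G).IsHomogeneous 1 := by simpa using hG.pderiv (i := i)
    have h := congrArg (aeval u) h1.sum_X_mul_pderiv
    rw [map_sum, one_smul] at h
    rw [← h]
    refine Finset.sum_congr rfl fun j _ => ?_
    have h0 : (pderiv j (pderiv i G)).IsHomogeneous 0 := by simpa using h1.pderiv (i := j)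
    have hC := (totalDegree_eq_zero_iff_eq_C (p := pderiv j (pderiv i G))).mp
      (Nat.le_zero.mp h0.totalDegree_le)
    rw [map_mul, aeval_X]
    congr 1
    conv_lhs => rw [hC]
    simp
  simp only [D_apply, key, Finset.mul_sum]
  rw [Finset.sum_comm]
  refine Finset.sum_congr rfl fun j _ => Finset.sum_congr rfl fun i _ => ?_
  rw [pderiv_comm j i]
  ring

/-- Value and differential at `v` packed in one functional on `W` (`x v = 1`). -/
noncomputable def Φ (d : ℕ) (W : Submodule k (Fin (r + 1) → k)) (v : Fin (r + 1) → k)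
    (x : (Fin (r + 1) → k) →ₗ[k] k) : Form r k d →ₗ[k] Module.Dual k W where
  toFun G := (((1 - (d : k)) * aeval v G.1) • x + D v G.1).domRestrict W
  map_add' G H := by
    ext w
    simp [mul_add]
    ring
  map_smul' c G := by
    ext w
    simp
    ring

lemma Φ_apply {d : ℕ} {W : Submodule k (Fin (r + 1) → k)} {v : Fin (r + 1) → k}
    {x : (Fin (r + 1) → k) →ₗ[k] k} (G : Form r k d) (w : W) :
    Φ d W v x G w = (1 - (d : k)) * aeval v G.1 * x w + D v G.1 w := rfl

lemma ker_Φ {d : ℕ} {W : Submodule k (Fin (r + 1) → k)} {v : Fin (r + 1) → k} (hv : v ∈ W)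
    {x : (Fin (r + 1) → k) →ₗ[k] k} (hx : x v = 1) :
    LinearMap.ker (Φ d W v x) = LinearMap.ker (tangLin (d := d) k W v) := by
  ext G
  have key : tangLin k W v G = 0 ↔ aeval v G.1 = 0 ∧ ∀ w : W, D v G.1 w = 0 := by
    simp [tangLin, Prod.ext_iff, funext_iff, D_apply]
  rw [LinearMap.mem_ker, LinearMap.mem_ker, key]
  constructor
  · intro h
    have h' : ∀ w : W, Φ d W v x G w = 0 := fun w => by rw [h]; rfl
    have h0 := h' ⟨v, hv⟩
    rw [Φ_apply, D_self ((mem_homogeneousSubmodule d G.1).mp G.2), hx] at h0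
    have h1 : aeval v G.1 = 0 := by linear_combination h0
    refine ⟨h1, fun w => ?_⟩
    simpa [Φ_apply, h1] using h' w
  · rintro ⟨h1, h2⟩
    ext w
    simp [Φ_apply, h1, h2 w]

lemma exists_sep {W : Submodule k (Fin (r + 1) → k)} {u : Fin (r + 1) → k} (hu : u ∉ W) :
    ∃ h : (Fin (r + 1) → k) →ₗ[k] k, h u = 1 ∧ ∀ w ∈ W, h w = 0 := by
  obtain ⟨h, hu', hW⟩ := Submodule.exists_dual_map_eq_bot_of_notMem hu inferInstance
  refine ⟨(h u)⁻¹ • h, by simp [inv_mul_cancel₀ hu'], fun w hw => ?_⟩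
  have : h w = 0 := (Submodule.mem_bot k).mp (hW ▸ Submodule.mem_map_of_mem hw)
  simp [this]

lemma exists_ext (W : Submodule k (Fin (r + 1) → k)) (φ : Module.Dual k W) (u : Fin (r + 1) → k)
    (c : k) (hc : ∀ h : u ∈ W, φ ⟨u, h⟩ = c) :
    ∃ F : (Fin (r + 1) → k) →ₗ[k] k, (∀ w : W, F w = φ w) ∧ F u = c := by
  obtain ⟨F₀, hF₀⟩ := φ.exists_extend
  have hF : ∀ w : W, F₀ w = φ w := fun w => LinearMap.congr_fun hF₀ w
  by_cases hu : u ∈ W
  · exact ⟨F₀, hF, by rw [← hc hu]; exact hF ⟨u, hu⟩⟩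
  · obtain ⟨h, hu', hW⟩ := exists_sep hu
    exact ⟨F₀ + (c - F₀ u) • h, fun w => by simp [hF, hW w w.2], by simp [hu']⟩

lemma exists_coord {v₁ v₂ : Fin (r + 1) → k} (hv : LinearIndependent k ![v₁, v₂]) :
    ∃ x : (Fin (r + 1) → k) →ₗ[k] k, x v₁ = 1 ∧ x v₂ = 0 := by
  have hnot : v₁ ∉ k ∙ v₂ := by
    intro h
    obtain ⟨a, ha⟩ := Submodule.mem_span_singleton.mp h
    have := (LinearIndependent.pair_iff.mp hv) 1 (-a) (by simp [ha])
    exact one_ne_zero this.1
  obtain ⟨x, hx, hW⟩ := exists_sep hnot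
  exact ⟨x, hx, hW _ (Submodule.mem_span_singleton_self v₂)⟩

/-- Forms with prescribed packed differentials at both points, up to the cross term in degree two. -/
lemma exists_form (e : ℕ) {v₁ v₂ : Fin (r + 1) → k} {x₀ x₁ : (Fin (r + 1) → k) →ₗ[k] k}
    (hx₀1 : x₀ v₁ = 1) (hx₀2 : x₀ v₂ = 0) (hx₁2 : x₁ v₂ = 1) (hx₁1 : x₁ v₁ = 0)
    (W₁ W₂ : Submodule k (Fin (r + 1) → k)) (F H : (Fin (r + 1) → k) →ₗ[k] k) :
    ∃ G : Form r k (e + 2),
      (∀ w : W₁, Φ (e + 2) W₁ v₁ x₀ G w = F w + ((e : k) + 1) * 0 ^ e * H v₁ * x₁ w) ∧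
      (∀ w : W₂, Φ (e + 2) W₂ v₂ x₁ G w = H w + ((e : k) + 1) * 0 ^ e * F v₂ * x₀ w) := by
  let P := C (F v₁) * lin x₀ ^ (e + 2) + lin x₀ ^ (e + 1) * lin (F - F v₁ • x₀) +
    (C (H v₂) * lin x₁ ^ (e + 2) + lin x₁ ^ (e + 1) * lin (H - H v₂ • x₁))
  have hP : P.IsHomogeneous (e + 2) := by
    refine IsHomogeneous.add (IsHomogeneous.add ?_ ?_) (IsHomogeneous.add ?_ ?_)
    · simpa using (isHomogeneous_C _ (F v₁)).mul ((lin_hom x₀).pow (e + 2))
    · simpa using ((lin_hom x₀).pow (e + 1)).mul (lin_hom (F - F v₁ • x₀))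
    · simpa using (isHomogeneous_C _ (H v₂)).mul ((lin_hom x₁).pow (e + 2))
    · simpa using ((lin_hom x₁).pow (e + 1)).mul (lin_hom (H - H v₂ • x₁))
  refine ⟨⟨P, (mem_homogeneousSubmodule _ _).mpr hP⟩, fun w => ?_, fun w => ?_⟩
  · rw [Φ_apply]
    simp [P, D_mul, D_pow, D_lin, D_C, aeval_lin, eval_lin, hx₀1, hx₁1]
    ring
  · rw [Φ_apply]
    simp [P, D_mul, D_pow, D_lin, D_C, aeval_lin, eval_lin, hx₀2, hx₁2]
    ring

end Groth.Agent.TangForm19
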